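import Cfsg.Agent.Lib.Golay.Code
import Cfsg.Agent.Lib.AbstractGolay.Basic

/-!
# Cosets of the length-24 code, transferred from the abstract code

Main results: `coset_classify`, `exists_le_three_off` (a word is within 3 of the code off a point).
-/

set_option autoImplicit false

noncomputable section

namespace Cfsg.Agent.GolayCosets

open Cfsg.Agent.AbstractGolay

/-- A numbering of the 24 points. -/
def num : Fin 24 ≃ GolayPt := (Fintype.equivFinOfCardEq (by simp)).symm

/-- Reindexing words by the numbering. -/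
def shift : (GolayPt → ZMod 2) ≃ₗ[ZMod 2] Word := LinearEquiv.funCongrLeft (ZMod 2) (ZMod 2) num

theorem shift_apply (w : GolayPt → ZMod 2) (i : Fin 24) : shift w i = w (num i) := rfl

theorem hammingNorm_shift (w : GolayPt → ZMod 2) : hammingNorm (shift w) = hammingNorm w := by
  unfold hammingNorm
  refine Finset.card_equiv num fun i => ?_
  rw [Finset.mem_filter, Finset.mem_filter]
  exact and_congr (iff_of_true (Finset.mem_univ _) (Finset.mem_univ _)) Iff.rfl

/-- The code on `Fin 24`. -/
def code : Submodule (ZMod 2) Word := golayCode.map (shift : (GolayPt → ZMod 2) →ₗ[ZMod 2] Word)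

theorem mem_code_iff {v : Word} : v ∈ code ↔ shift.symm v ∈ golayCode :=
  Submodule.mem_map_equiv _

theorem isGolay_code : IsGolay code where
  dim := by
    rw [code, LinearEquiv.finrank_map_eq, Cfsg.Agent.Golay.finrank_golayCode]
  orth := by
    intro v hv w hw
    rw [mem_code_iff] at hv hw
    have h := Cfsg.Agent.Golay.self_orthogonal hv hw
    rw [← num.sum_comp] at h
    have e : ∀ (x : Word) (i : Fin 24), shift.symm x (num i) = x i := by
      intro x i
      exact congrFun (shift.apply_symm_apply x) i
    simpa [e] using h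
  minWt := by
    intro v hv hne
    rw [mem_code_iff] at hv
    have h := Cfsg.Agent.Golay.weights hv
    have h0 : shift.symm v ≠ 0 := by simpa using hne
    have e : hammingNorm v = hammingNorm (shift.symm v) := by
      conv_lhs => rw [← shift.apply_symm_apply v]
      exact hammingNorm_shift _
    have hpos := hammingNorm_pos_iff.2 h0
    rw [e]
    omega

/-- The short words in the coset of `w`. -/
def short (w : GolayPt → ZMod 2) : Set (GolayPt → ZMod 2) :=
  {v | hammingNorm v ≤ 4 ∧ w - v ∈ golayCode}

theorem image_short (w : GolayPt → ZMod 2) :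
    shift '' short w = {u : Word | u - shift w ∈ code ∧ hammingNorm u ≤ 4} := by
  ext u
  simp only [short, Set.mem_image, Set.mem_setOf_eq, mem_code_iff, map_sub,
    LinearEquiv.symm_apply_apply]
  constructor
  · rintro ⟨v, ⟨h4, hm⟩, rfl⟩
    rw [LinearEquiv.symm_apply_apply, hammingNorm_shift, ← neg_sub]
    exact ⟨golayCode.neg_mem hm, h4⟩
  · rintro ⟨hm, h4⟩
    refine ⟨shift.symm u, ⟨?_, ?_⟩, shift.apply_symm_apply u⟩
    · rwa [← hammingNorm_shift, shift.apply_symm_apply]
    · rw [← neg_sub]
      exact golayCode.neg_mem hm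

theorem coset_classify (w : GolayPt → ZMod 2) :
    ((short w).ncard = 1 ∧ ∃ v : GolayPt → ZMod 2, hammingNorm v ≤ 3 ∧ w - v ∈ golayCode) ∨
    ((short w).ncard = 6 ∧ (∀ v ∈ short w, hammingNorm v = 4) ∧
      ∀ v ∈ short w, ∀ v' ∈ short w, v ≠ v' → ∀ p, v p ≠ 0 → v' p = 0) := by
  have hn : (short w).ncard = ({u : Word | u - shift w ∈ code ∧ hammingNorm u ≤ 4}).ncard := by
    rw [← image_short, Set.ncard_image_of_injective _ shift.injective]
  have hmem : ∀ v ∈ short w, shift v ∈ {u : Word | u - shift w ∈ code ∧ hammingNorm u ≤ 4} :=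
    fun v hv => image_short w ▸ Set.mem_image_of_mem _ hv
  rcases isGolay_code.coset_classify (shift w) with ⟨u, hset, h3⟩ | ⟨h6, hall⟩
  · left
    refine ⟨by rw [hn, hset, Set.ncard_singleton], ?_⟩
    obtain ⟨v, hv, hvu⟩ : u ∈ shift '' short w := by rw [image_short, hset]; rfl
    exact ⟨v, by rwa [← hammingNorm_shift, hvu], hv.2⟩
  · right
    refine ⟨hn ▸ h6, fun v hv => ?_, fun v hv v' hv' hne p hp => ?_⟩
    · rw [← hammingNorm_shift]
      exact (hall _ (hmem v hv)).1
    · have hd := (hall _ (hmem v hv)).2 _ (hmem v' hv') (shift.injective.ne hne)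
      have h1 : num.symm p ∈ sp (shift v) := by
        rw [mem_sp, shift_apply, Equiv.apply_symm_apply]; exact hp
      have h2 := Finset.disjoint_left.1 hd h1
      rw [mem_sp, shift_apply, Equiv.apply_symm_apply, not_not] at h2
      exact h2

theorem exists_le_three_off (w : GolayPt → ZMod 2) (p : GolayPt) :
    ∃ v : GolayPt → ZMod 2, w - v ∈ golayCode ∧
      (Finset.univ.filter fun q => q ≠ p ∧ v q ≠ 0).card ≤ 3 := by
  rcases coset_classify w with ⟨-, v, h3, hv⟩ | ⟨h6, h4, hdis⟩
  · refine ⟨v, hv, le_trans (Finset.card_le_card fun q hq => ?_) h3⟩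
    simp only [Finset.mem_filter] at hq ⊢
    exact ⟨hq.1, hq.2.2⟩
  · classical
    obtain ⟨S, hS⟩ := (Set.finite_of_ncard_ne_zero (by omega : (short w).ncard ≠ 0)).exists_finset_coe
    rw [← hS, Set.ncard_coe_finset] at h6
    have hmem : ∀ v, v ∈ S ↔ v ∈ short w := fun v => by rw [← hS]; rfl
    have hdis' : (S : Set (GolayPt → ZMod 2)).PairwiseDisjoint
        fun v => Finset.univ.filter fun q => v q ≠ 0 := by
      intro a ha b hb hab
      rw [Finset.mem_coe, hmem] at ha hb
      simp only [Function.onFun, Finset.disjoint_left, Finset.mem_filter, Finset.mem_univ,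
        true_and, not_not]
      exact hdis a ha b hb hab
    have hcover : S.biUnion (fun v => Finset.univ.filter fun q => v q ≠ 0) = Finset.univ := by
      apply Finset.eq_univ_of_card
      rw [Finset.card_biUnion hdis', Finset.sum_const_nat (m := 4), h6]
      · simp
      · intro v hv
        exact h4 v ((hmem v).1 hv)
    obtain ⟨v, hv, hpv⟩ := Finset.mem_biUnion.1 (hcover ▸ Finset.mem_univ p)
    refine ⟨v, ((hmem v).1 hv).2, ?_⟩
    have hlt : (Finset.univ.filter fun q => q ≠ p ∧ v q ≠ 0).card <
        (Finset.univ.filter fun q => v q ≠ 0).card := by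
      refine Finset.card_lt_card ((Finset.ssubset_iff_of_subset fun q hq => ?_).2 ⟨p, hpv, by simp⟩)
      simp only [Finset.mem_filter] at hq ⊢
      exact ⟨hq.1, hq.2.2⟩
    have := h4 v ((hmem v).1 hv)
    simp only [hammingNorm] at this
    omega

end Cfsg.Agent.GolayCosets
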